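import Cfsg.Agent.KFacts.J3
import Cfsg.Agent.KFacts.J3Sheet
import Cfsg.Agent.H209.PiSpor.Tools

/-!
# The outer involutions of `J₃` form one class (helper273)

Automorphisms fixing the involution `z` act on the five classes `{v i, z v i}` of `2_-^{1+4}` as signed permutations `Ty`;
an outer involution is conjugate to one of two types `G0`, `G1`, and only one type consists of involutions.
-/

set_option autoImplicit false

namespace Cfsg.Agent.H273.PiSpor.J3Out

open Cfsg Subgroup Cfsg.Agent.Co2Type.Quad Cfsg.Agent.KFacts.AutLarge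
open Cfsg.Agent.J2Type.Model Cfsg.Agent.J2Type.CStruct Cfsg.Agent.J3Type.OneClass Cfsg.Agent.KFacts.J3Sheet
open Cfsg.Agent.KFacts

/-- the transposition -/
def s01 : Equiv.Perm (Fin 5) := Equiv.swap 0 1

/-- first type -/
def G0 : SP := ⟨s01, ![0, 0, 1, 0, 0]⟩
/-- second type -/
def G1 : SP := ⟨s01, ![0, 0, 1, 1, 1]⟩

/-- the flip -/
def h1 : SP := ⟨1, ![0, 1, 1, 1, 1]⟩
/-- the 3-cycle -/
def c3 : SP := ⟨Equiv.swap 2 3 * Equiv.swap 3 4, ![0, 0, 0, 0, 0]⟩

theorem perm_red : ∀ σ : Equiv.Perm (Fin 5), σ * σ = 1 → Equiv.Perm.sign σ = -1 →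
    ∃ τ : Equiv.Perm (Fin 5), Equiv.Perm.sign τ = 1 ∧ τ * σ * τ⁻¹ = s01 := by decide +kernel

theorem type_red : ∀ e : Fin 5 → ZMod 2, e 0 = e 1 → e 0 + e 1 + e 2 + e 3 + e 4 = 1 →
    ∃ h ∈ [(1 : SP), c3, c3 * c3, h1, h1 * c3, h1 * (c3 * c3)],
      h * ⟨s01, e⟩ * h⁻¹ = G0 ∨ h * ⟨s01, e⟩ * h⁻¹ = G1 := by decide +kernel

theorem list_ok : ∀ h ∈ [(1 : SP), c3, c3 * c3, h1, h1 * c3, h1 * (c3 * c3)],
    Equiv.Perm.sign h.σ = 1 ∧ h.s 0 + h.s 1 + h.s 2 + h.s 3 + h.s 4 = 0 := by decide +kernel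

theorem G01 : h1 * (⟨1, fun j => if j = 2 then 0 else 1⟩ * G1) * h1⁻¹ = G0 := by decide +kernel

section

variable {K : Type*} [Group K] {z : K} {Q : Subgroup (centralizer ({z} : Set K))}
  {v : Fin 5 → centralizer ({z} : Set K)} {ρ : centralizer ({z} : Set K) →* SP}

/-- `α` fixes `z` and acts as the signed permutation `g` -/
def Ty (v : Fin 5 → centralizer ({z} : Set K)) (α : MulAut K) (g : SP) : Prop :=
  α z = z ∧ ∀ i, α (v i : K) = ((zp (zc z) (g.s i) * v (g.σ i) : centralizer ({z} : Set K)) : K)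

theorem map_zp {α : MulAut K} (hα : α z = z) (a : ZMod 2) :
    α ((zp (zc z) a : centralizer ({z} : Set K)) : K) = ((zp (zc z) a : centralizer ({z} : Set K)) : K) := by
  rcases zmod2_cases a with rfl | rfl
  · rw [zp_zero]; exact map_one α
  · rw [zp_one]; exact hα

theorem Ty.one : Ty v (1 : MulAut K) (1 : SP) := by
  refine ⟨rfl, fun i => ?_⟩
  show (v i : K) = ((zp (zc z) 0 * v i : centralizer ({z} : Set K)) : K)
  rw [zp_zero, one_mul]

theorem Ty.mul (M : IsModel Q (zc z) v ρ) {α β : MulAut K} {g h : SP} (h1 : Ty v α g) (h2 : Ty v β h) :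
    Ty v (α * β) (g * h) := by
  refine ⟨by rw [MulAut.mul_apply, h2.1, h1.1], fun i => ?_⟩
  rw [MulAut.mul_apply, h2.2 i, Subgroup.coe_mul, map_mul, map_zp h1.1, h1.2, mul_s, mul_σ, zp_add _ M.z_sq,
    Equiv.Perm.mul_apply, Subgroup.coe_mul, Subgroup.coe_mul, Subgroup.coe_mul, mul_assoc]

theorem Ty.conj (M : IsModel Q (zc z) v ρ) (c : centralizer ({z} : Set K)) : Ty v (MulAut.conj (c : K)) (ρ c) := by
  refine ⟨?_, fun i => ?_⟩
  · rw [MulAut.conj_apply, vz c, mul_inv_cancel_right]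
  · rw [← M.conj c i]
    rfl

theorem Ty.unique (M : IsModel Q (zc z) v ρ) {α : MulAut K} {g h : SP} (h1 : Ty v α g) (h2 : Ty v α h) : g = h := by
  have key : ∀ i, g.s i = h.s i ∧ g.σ i = h.σ i := by
    intro i
    apply M.v_inj
    apply Subtype.ext
    rw [← h1.2 i, ← h2.2 i]
  apply SP.ext
  · apply Equiv.ext
    intro i
    exact (key i).2
  · funext i
    exact (key i).1

theorem Ty.permOf (M : IsModel Q (zc z) v ρ) {α : MulAut K} {g : SP} (h1 : Ty v α g) : PermOf v α g.σ := by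
  intro i
  rw [h1.2 i]
  exact eqz_zp M (g.s i) (v (g.σ i))

theorem exists_ty [Finite K] (hc : Nat.card (centralizer ({z} : Set K)) = 1920) (M : IsModel Q (zc z) v ρ)
    {α : MulAut K} (hα : α z = z) : ∃ g, Ty v α g := by
  obtain ⟨σ, hσ⟩ := exists_perm hc M hα
  have h1 : ∀ i, ∃ a : ZMod 2, α (v i : K) = ((zp (zc z) a * v (σ i) : centralizer ({z} : Set K)) : K) := by
    intro i
    rcases hσ i with h | h
    · exact ⟨0, by rw [h, zp_zero, one_mul]⟩
    · refine ⟨1, ?_⟩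
      rw [h, zp_one, ← M.z_comm]
      rfl
  choose s hs using h1
  exact ⟨⟨σ, s⟩, hα, hs⟩

theorem Ty.sum (M : IsModel Q (zc z) v ρ) {α : MulAut K} {g : SP} (h : Ty v α g) (hσ : Equiv.Perm.sign g.σ = -1) :
    g.s 0 + g.s 1 + g.s 2 + g.s 3 + g.s 4 = 1 := by
  have h1 := congrArg (fun c : centralizer ({z} : Set K) => α (c : K)) M.v_prod
  simp only [Subgroup.coe_mul, map_mul, h.2, Subgroup.coe_one, map_one] at h1
  have h2 : (zp (zc z) (g.s 0) * v (g.σ 0)) * (zp (zc z) (g.s 1) * v (g.σ 1)) * (zp (zc z) (g.s 2) * v (g.σ 2)) *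
      (zp (zc z) (g.s 3) * v (g.σ 3)) * (zp (zc z) (g.s 4) * v (g.σ 4)) = 1 := by
    apply Subtype.ext
    simp only [Subgroup.coe_mul, Subgroup.coe_one]
    exact h1
  have hp := prod_perm M.z_sq M.z_comm v M.v_anti M.v_prod g.σ
  rw [hσ, if_neg (by decide)] at hp
  have hcm : ∀ (a : ZMod 2) (c : centralizer ({z} : Set K)), c * zp (zc z) a = zp (zc z) a * c := fun a c =>
    zp_comm' M a c
  have h3 : (zp (zc z) (g.s 0) * v (g.σ 0)) * (zp (zc z) (g.s 1) * v (g.σ 1)) * (zp (zc z) (g.s 2) * v (g.σ 2)) *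
      (zp (zc z) (g.s 3) * v (g.σ 3)) * (zp (zc z) (g.s 4) * v (g.σ 4)) =
      zp (zc z) (g.s 0 + g.s 1 + g.s 2 + g.s 3 + g.s 4) *
        (v (g.σ 0) * v (g.σ 1) * v (g.σ 2) * v (g.σ 3) * v (g.σ 4)) := by
    rw [zp_add _ M.z_sq, zp_add _ M.z_sq, zp_add _ M.z_sq, zp_add _ M.z_sq]
    generalize v (g.σ 0) = a0
    generalize v (g.σ 1) = a1
    generalize v (g.σ 2) = a2
    generalize v (g.σ 3) = a3
    generalize v (g.σ 4) = a4
    have k1 := hcm (g.s 1) a0
    have k2 := hcm (g.s 2) (a0 * a1)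
    have k3 := hcm (g.s 3) (a0 * a1 * a2)
    have k4 := hcm (g.s 4) (a0 * a1 * a2 * a3)
    generalize zp (zc z) (g.s 0) = b0 at *
    generalize zp (zc z) (g.s 1) = b1 at *
    generalize zp (zc z) (g.s 2) = b2 at *
    generalize zp (zc z) (g.s 3) = b3 at *
    generalize zp (zc z) (g.s 4) = b4 at *
    calc b0 * a0 * (b1 * a1) * (b2 * a2) * (b3 * a3) * (b4 * a4)
        = b0 * (a0 * b1) * a1 * b2 * a2 * b3 * a3 * b4 * a4 := by group
      _ = b0 * b1 * ((a0 * a1) * b2) * a2 * b3 * a3 * b4 * a4 := by rw [k1]; group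
      _ = b0 * b1 * b2 * ((a0 * a1 * a2) * b3) * a3 * b4 * a4 := by rw [k2]; group
      _ = b0 * b1 * b2 * b3 * ((a0 * a1 * a2 * a3) * b4) * a4 := by rw [k3]; group
      _ = b0 * b1 * b2 * b3 * b4 * (a0 * a1 * a2 * a3 * a4) := by rw [k4]; group
  rw [h3, hp, ← zp_add _ M.z_sq] at h2
  have h4 : zp (zc z) (g.s 0 + g.s 1 + g.s 2 + g.s 3 + g.s 4 + 1) = zp (zc z) 0 := by rw [h2, zp_zero]
  have h5 := zp_inj M h4
  rcases zmod2_cases (g.s 0 + g.s 1 + g.s 2 + g.s 3 + g.s 4) with h6 | h6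
  · rw [h6] at h5
    exact absurd h5 (by decide)
  · exact h6

end

section gen

variable {K : Type*} [Group K] {z : K} {Q : Subgroup (centralizer ({z} : Set K))}
  {v : Fin 5 → centralizer ({z} : Set K)} {ρ : centralizer ({z} : Set K) →* SP}

open Cfsg.Agent.H216.Pi (cj)

theorem h1_eq : h1 = ⟨1, fun j => if j = 0 then 0 else 1⟩ := by decide +kernel

theorem Ty.cj (M : IsModel Q (zc z) v ρ) {α : MulAut K} {g : SP} (h : Ty v α g) (c : centralizer ({z} : Set K)) :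
    Ty v (cj α (c : K)) (ρ c * g * (ρ c)⁻¹) := by
  have h1 := ((Ty.conj M c).mul M h).mul M (Ty.conj M c⁻¹)
  rw [map_inv] at h1
  have h2 : (MulAut.conj ((c⁻¹ : centralizer ({z} : Set K)) : K)) = (MulAut.conj (c : K))⁻¹ := by
    rw [Subgroup.coe_inv, map_inv]
  rw [h2] at h1
  exact h1

theorem exists_of_sum (M : IsModel Q (zc z) v ρ) {h : SP} (h1 : Equiv.Perm.sign h.σ = 1)
    (h2 : h.s 0 + h.s 1 + h.s 2 + h.s 3 + h.s 4 = 0) : ∃ c, ρ c = h :=
  (M.range h).2 ⟨h1, by rw [Fin.sum_univ_five]; exact h2⟩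

/-- if `x (v 2) = z v 2`, then conjugation with `v 2` multiplies `x` with `z` -/
theorem cj_v2 (M : IsModel Q (zc z) v ρ) {x : MulAut K} {g : SP} (hx : Ty v x g) (h2 : g.s 2 = 1) (h2' : g.σ 2 = 2) :
    cj x (v 2 : K) = x * MulAut.conj z := by
  have e : x (v 2 : K) = z * v 2 := by
    rw [hx.2 2, h2, h2', zp_one]; rfl
  have hzz : z * z = 1 := zz M
  have hzi : z⁻¹ = z := inv_eq_of_mul_eq_one_left hzz
  have hvz := vz (v 2)
  have hci : (MulAut.conj (v 2 : K))⁻¹ = MulAut.conj ((v 2 : K)⁻¹) := (map_inv _ _).symm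
  ext a
  unfold H216.Pi.cj
  rw [hci]
  show (v 2 : K) * x ((v 2 : K)⁻¹ * a * (v 2 : K)⁻¹⁻¹) * (v 2 : K)⁻¹ = x (z * a * z⁻¹)
  rw [map_mul, map_mul, map_inv, map_inv, map_inv, map_mul, map_mul, map_inv, hx.1, e, inv_inv, mul_inv_rev, hzi]
  have k1 : (v 2 : K) * ((v 2 : K)⁻¹ * z) = z := by group
  have k2 : (z * (v 2 : K)) * (v 2 : K)⁻¹ = z := by group
  calc (v 2 : K) * ((v 2 : K)⁻¹ * z * x a * (z * (v 2 : K))) * (v 2 : K)⁻¹
      = (v 2 : K) * ((v 2 : K)⁻¹ * z) * x a * ((z * (v 2 : K)) * (v 2 : K)⁻¹) := by group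
    _ = z * x a * z := by rw [k1, k2]

variable [Finite K] (hc : Nat.card (centralizer ({z} : Set K)) = 1920) (M : IsModel Q (zc z) v ρ) {n₀ : K}
  (hin : n₀ * z * n₀⁻¹ ∈ Q.map (centralizer ({z} : Set K)).subtype) (hnz : n₀ * z * n₀⁻¹ ≠ z)
  (hgen : closure ({c : K | c * z = z * c} ∪ {n₀}) = ⊤)
include hc M hin hnz hgen

/-- automorphisms of the same type -/
theorem Ty.eq_or {α β : MulAut K} {g : SP} (ha : Ty v α g) (hb : Ty v β g) : α = β ∨ α = β * MulAut.conj z := by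
  set γ : MulAut K := β⁻¹ * α with hγ
  have hβγ : ∀ a, β (γ a) = α a := by
    intro a
    rw [hγ, MulAut.mul_apply, MulAut.apply_inv_self]
  have hγz : γ z = z := β.injective (by rw [hβγ, ha.1, hb.1])
  have hγv : ∀ i, γ (v i : K) = v i := fun i => β.injective (by rw [hβγ, ha.2, hb.2])
  obtain ⟨k, hk⟩ := inner_of_even hc M hin hnz hgen hγz (σ := 1) (fun i => Or.inl (hγv i)) (Equiv.Perm.sign_one)
  have hkz : k * z = z * k := by
    have := hγz
    rw [hk, MulAut.conj_apply, mul_inv_eq_iff_eq_mul] at this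
    exact this
  have hkv : ∀ i, k * v i = v i * k := by
    intro i
    have := hγv i
    rw [hk, MulAut.conj_apply, mul_inv_eq_iff_eq_mul] at this
    exact this
  have hkC : k ∈ centralizer ({z} : Set K) := mem_centralizer_singleton_iff.2 hkz
  have h1 : α = β * γ := by rw [hγ, mul_inv_cancel_left]
  rcases QMinus.cent_Q M (c := ⟨k, hkC⟩) (fun i => Subtype.ext (hkv i)) with h | h
  · left
    have h2 : k = 1 := congrArg Subtype.val h
    rw [h1, hk, h2, map_one, mul_one]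
  · right
    have h2 : k = z := congrArg Subtype.val h
    rw [h1, hk, h2]

theorem exists_type {x : MulAut K} (hx : x * x = 1) (hxz : x z = z)
    (hxo : x ∉ (MulAut.conj : K →* MulAut K).range) : ∃ k : K, Ty v (cj x k) G0 ∨ Ty v (cj x k) G1 := by
  obtain ⟨g, hg⟩ := exists_ty hc M hxz
  have hsq : ∀ {y : MulAut K} {h : SP}, y * y = 1 → Ty v y h → h * h = 1 := by
    intro y h hy hh
    have h2 := hh.mul M hh
    rw [hy] at h2
    exact h2.unique M Ty.one
  have hodd : ∀ {y : MulAut K} {h : SP}, y ∉ (MulAut.conj : K →* MulAut K).range → Ty v y h →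
      Equiv.Perm.sign h.σ = -1 := by
    intro y h hy hh
    apply int_sign
    intro h2
    obtain ⟨k, hk⟩ := inner_of_even hc M hin hnz hgen hh.1 (hh.permOf M) h2
    exact hy ⟨k, hk.symm⟩
  have hgg := hsq hx hg
  obtain ⟨τ, hτ, hτ'⟩ := perm_red g.σ (by rw [← mul_σ, hgg]; rfl) (hodd hxo hg)
  obtain ⟨c, hcτ⟩ := exists_of_sum M (h := ⟨τ, fun _ => 0⟩) hτ (by simp)
  have hx1 := hg.cj M c
  set g1 : SP := ρ c * g * (ρ c)⁻¹ with hg1
  have hσ1 : g1.σ = s01 := by
    rw [hg1, hcτ]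
    exact hτ'
  have hcj : cj x (c : K) * cj x (c : K) = 1 := by
    rw [← H216.Pi.cj_mul, hx]
    unfold H216.Pi.cj
    rw [mul_one, mul_inv_cancel]
  have hcjo : cj x (c : K) ∉ (MulAut.conj : K →* MulAut K).range := by
    intro h
    apply hxo
    have h2 : x = (MulAut.conj (c : K))⁻¹ * cj x (c : K) * MulAut.conj (c : K) := by
      unfold H216.Pi.cj
      group
    rw [h2]
    exact mul_mem (mul_mem (inv_mem ⟨_, rfl⟩) h) ⟨_, rfl⟩
  have hs1 := hx1.sum M (hodd hcjo hx1)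
  have hgg1 := hsq hcj hx1
  have he : g1.s 0 = g1.s 1 := by
    have h2 := congrArg (fun h : SP => h.s 0) hgg1
    have h3 : g1.s 0 + g1.s (g1.σ 0) = 0 := h2
    rw [hσ1] at h3
    have h4 : s01 0 = 1 := by decide
    rw [h4] at h3
    exact (CharTwo.add_eq_zero).1 h3
  have hg1' : g1 = ⟨s01, g1.s⟩ := by
    rw [← hσ1]
  obtain ⟨h, hl, hor⟩ := type_red g1.s he hs1
  rw [← hg1'] at hor
  obtain ⟨hl1, hl2⟩ := list_ok h hl
  obtain ⟨c', hc'⟩ := exists_of_sum M hl1 hl2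
  have hx2 := hx1.cj M c'
  rw [hc', H216.Pi.cj_cj] at hx2
  refine ⟨c' * c, ?_⟩
  rcases hor with h2 | h2
  · left
    rw [← h2]
    exact hx2
  · right
    rw [← h2]
    exact hx2

theorem not_both {x y : MulAut K} (hx : x * x = 1) (hy : y * y = 1) (hx0 : Ty v x G0) (hy1 : Ty v y G1) : False := by
  have hzz : z * z = 1 := zz M
  have hv2 : ρ (v 2) = ⟨1, fun j => if j = 2 then 0 else 1⟩ := rho_v M 2
  have hv0 : ρ (v 0) = h1 := by rw [h1_eq]; exact rho_v M 0
  have e : y (v 2 : K) = z * v 2 := by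
    rw [hy1.2 2]
    show ((zp (zc z) 1 * v 2 : centralizer ({z} : Set K)) : K) = _
    rw [zp_one]; rfl
  have hw0 := (Ty.conj M (v 2)).mul M hy1
  have hw := hw0.cj M (v 0)
  rw [hv2, hv0, G01] at hw
  -- the square
  have hvv : (v 2 : K) * v 2 = 1 := congrArg Subtype.val (M.v_sq 2)
  have hvz := vz (v 2)
  have hvz0 := vz (v 0)
  have sq0 : (MulAut.conj (v 2 : K) * y) * (MulAut.conj (v 2 : K) * y) = MulAut.conj z := by
    ext a
    show (v 2 : K) * y ((v 2 : K) * y a * (v 2 : K)⁻¹) * (v 2 : K)⁻¹ = z * a * z⁻¹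
    have hyy : y (y a) = a := congrArg (fun φ : MulAut K => φ a) hy
    rw [map_mul, map_mul, map_inv, hyy, e]
    calc (v 2 : K) * (z * v 2 * a * (z * (v 2 : K))⁻¹) * (v 2 : K)⁻¹
        = ((v 2 : K) * z * v 2) * a * ((v 2 : K) * z * v 2)⁻¹ := by group
      _ = z * a * z⁻¹ := by rw [hvz, mul_assoc z, hvv, mul_one]
  have sq1 : cj (MulAut.conj (v 2 : K) * y) (v 0 : K) * cj (MulAut.conj (v 2 : K) * y) (v 0 : K) = MulAut.conj z := by
    rw [← H216.Pi.cj_mul, sq0, H216.Pi.cj_conj, hvz0, mul_inv_cancel_right]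
  set w := cj (MulAut.conj (v 2 : K) * y) (v 0 : K) with hwdef
  have hcz : (MulAut.conj z : MulAut K) = 1 := by
    rcases Ty.eq_or hc M hin hnz hgen hx0 hw with h | h
    · rw [← sq1, ← h, hx]
    · have hwz : w * MulAut.conj z = MulAut.conj z * w := by
        ext a
        show w (z * a * z⁻¹) = z * w a * z⁻¹
        rw [map_mul, map_mul, map_inv, hw.1]
      have hcc : (MulAut.conj z : MulAut K) * MulAut.conj z = 1 := by rw [← map_mul, hzz, map_one]
      have h2 : x * x = w * w := by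
        rw [h]
        calc w * MulAut.conj z * (w * MulAut.conj z) = w * (MulAut.conj z * w) * MulAut.conj z := by group
          _ = w * (w * MulAut.conj z) * MulAut.conj z := by rw [hwz]
          _ = w * w * (MulAut.conj z * MulAut.conj z) := by group
          _ = w * w := by rw [hcc, mul_one]
      rw [← sq1, ← h2, hx]
  apply hnz
  have h3 := congrArg (fun φ : MulAut K => φ n₀) hcz
  have h4 : z * n₀ * z⁻¹ = n₀ := h3
  rw [mul_inv_eq_iff_eq_mul] at h4
  rw [← h4, mul_inv_cancel_right]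

/-- two outer involutions fixing `z` are conjugate -/
theorem conj_of_fix {x y : MulAut K} (hx : x * x = 1) (hy : y * y = 1) (hxz : x z = z) (hyz : y z = z)
    (hxo : x ∉ (MulAut.conj : K →* MulAut K).range) (hyo : y ∉ (MulAut.conj : K →* MulAut K).range) :
    ∃ k : K, y = cj x k := by
  obtain ⟨a, ha⟩ := exists_type hc M hin hnz hgen hx hxz hxo
  obtain ⟨b, hb⟩ := exists_type hc M hin hnz hgen hy hyz hyo
  have hsq : ∀ {y : MulAut K} (_ : y * y = 1) (k : K), cj y k * cj y k = 1 := by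
    intro y hy k
    rw [← H216.Pi.cj_mul, hy]
    unfold H216.Pi.cj
    rw [mul_one, mul_inv_cancel]
  have key : ∀ g : SP, g.s 2 = 1 → g.σ 2 = 2 → Ty v (cj x a) g → Ty v (cj y b) g → ∃ k : K, y = cj x k := by
    intro g h1 h2 h3 h4
    have h5 : ∃ k : K, cj y b = cj x k := by
      rcases Ty.eq_or hc M hin hnz hgen h4 h3 with h | h
      · exact ⟨a, h⟩
      · refine ⟨v 2 * a, ?_⟩
        rw [h, ← cj_v2 M h3 h1 h2, H216.Pi.cj_cj]
    obtain ⟨k, hk⟩ := h5
    refine ⟨b⁻¹ * k, ?_⟩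
    rw [← H216.Pi.cj_cj, ← hk, H216.Pi.cj_cj, inv_mul_cancel, H216.Pi.cj_one]
  rcases ha with ha | ha <;> rcases hb with hb | hb
  · exact key G0 rfl (by decide) ha hb
  · exact (not_both hc M hin hnz hgen (hsq hx a) (hsq hy b) ha hb).elim
  · exact (not_both hc M hin hnz hgen (hsq hy b) (hsq hx a) hb ha).elim
  · exact key G1 rfl (by decide) ha hb

end gen

open Cfsg.Agent.H216.Pi (cj) in
/-- **the outer involutions of `J₃` are conjugate** -/
theorem one_class {K : Type*} [Group K] [Finite K] (h : Spor.IsoJ3 K) {x y : MulAut K} (hx : orderOf x = 2)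
    (hy : orderOf y = 2) (hxo : x ∉ (MulAut.conj : K →* MulAut K).range)
    (hyo : y ∉ (MulAut.conj : K →* MulAut K).range) : ∃ k : K, y = cj x k := by
  obtain ⟨-, z, Q, v, ρ, n, u, F⟩ := KFacts.J3.exists_facts h
  have M := F.model
  have hvz : ∀ i, (v i : K) ≠ z := by
    intro i h
    apply zv_ne_z M 0 i
    rw [zp_zero, one_mul]; exact Subtype.ext h
  have hz2 : z * z = 1 := zz M
  have hz1 : z ≠ 1 := fun h => M.z_ne (Subtype.ext h)
  have hidx : ¬ 2 ∣ (centralizer ({z} : Set K)).index := by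
    have h1 := (centralizer ({z} : Set K)).card_mul_index
    rw [F.card_C, F.card_K] at h1
    omega
  have hconj : ∀ w : MulAut K, IsConj z (w z) := by
    intro w
    obtain ⟨g, hg⟩ := F.one (w z) (fun h => hz1 (w.injective (h.trans (map_one w).symm)))
      (by rw [← map_mul, hz2, map_one])
    exact isConj_iff.2 ⟨g, hg⟩
  obtain ⟨a, ha⟩ := H209.PiSpor.exists_cj_fix Nat.prime_two hx (hconj x) hidx
  obtain ⟨b, hb⟩ := H209.PiSpor.exists_cj_fix Nat.prime_two hy (hconj y) hidx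
  have hsq : ∀ {y : MulAut K} (_ : orderOf y = 2) (k : K), cj y k * cj y k = 1 := by
    intro y hy k
    have h2 : y * y = 1 := by rw [← pow_two, ← hy, pow_orderOf_eq_one]
    rw [← H216.Pi.cj_mul, h2]
    unfold H216.Pi.cj
    rw [mul_one, mul_inv_cancel]
  have hout : ∀ {y : MulAut K} (_ : y ∉ (MulAut.conj : K →* MulAut K).range) (k : K),
      cj y k ∉ (MulAut.conj : K →* MulAut K).range := by
    intro y hy k h
    apply hy
    have h2 : y = (MulAut.conj k)⁻¹ * cj y k * MulAut.conj k := by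
      unfold H216.Pi.cj
      group
    rw [h2]
    exact mul_mem (mul_mem (inv_mem ⟨_, rfl⟩) h) ⟨_, rfl⟩
  obtain ⟨k, hk⟩ := conj_of_fix F.card_C M (n₀ := n) (by rw [F.nz]; exact ⟨v 0, M.v_mem 0, rfl⟩)
    (by rw [F.nz]; exact hvz 0) F.gen (hsq hx a) (hsq hy b) ha hb (hout hxo a) (hout hyo b)
  refine ⟨b⁻¹ * (k * a), ?_⟩
  rw [← H216.Pi.cj_cj, ← H216.Pi.cj_cj, ← hk, H216.Pi.cj_cj, inv_mul_cancel, H216.Pi.cj_one]

end Cfsg.Agent.H273.PiSpor.J3Out
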