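import Cfsg.Agent.H273.PiSpor.RowTool
import Cfsg.Agent.H55.OutGen
import Cfsg.Agent.OddHalf.Table.OutRu
import Cfsg.Agent.RuLat.Main

/-!
# S4324, sporadic rows: the Rudvalis group (helper273)

`s = 29`: all automorphisms are inner, `14` fused generators, and `18` conjugates (`r ≥ 11`).
-/

set_option autoImplicit false

namespace Cfsg.Agent.H273.PiSpor.Ru

open Subgroup Cfsg Cfsg.Agent.H216.Pi Cfsg.Agent.H209.PiSpor

universe u

/-- the facts -/
def Facts (K : Type*) [Group K] : Prop := IsSimpleGroup K ∧ Nat.card K = 29 * 5031936000 ∧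
  (∀ α : MulAut K, α ∈ (MulAut.conj : K →* MulAut K).range) ∧
  ∃ y : K, orderOf y = 29 ∧ ∀ c : K, c * y = y * c → c ∈ zpowers y

theorem simple_equiv {X Y : Type*} [Group X] [Group Y] (h : IsSimpleGroup Y) (e : X ≃* Y) : IsSimpleGroup X :=
  e.isSimpleGroup

theorem Facts.congr {K : Type*} {L : Type*} [Group K] [Group L] (e : K ≃* L) (h : Facts L) : Facts K := by
  obtain ⟨h1, h2, h3, y, hy, hc⟩ := h
  refine ⟨simple_equiv h1 e, (Nat.card_congr e.toEquiv).trans h2, ?_, e.symm y, by rw [MulEquiv.orderOf_eq, hy], ?_⟩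
  · have h4 : (MulAut.conj : K →* MulAut K).range.index = 1 := by
      rw [H55.OutGen.index_range_conj_congr e, index_eq_one, eq_top_iff]
      exact fun α _ => h3 α
    intro α
    rw [index_eq_one] at h4
    rw [h4]
    trivial
  · intro c hcy
    have h4 : e c * y = y * e c := by
      have := congrArg e hcy
      rwa [map_mul, map_mul, e.apply_symm_apply] at this
    obtain ⟨j, hj⟩ := hc _ h4
    refine ⟨j, e.injective ?_⟩
    show e ((e.symm y) ^ j) = e c
    rw [map_zpow, e.apply_symm_apply]
    exact hj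

theorem facts_H : Facts Cfsg.Agent.SporadicB.RuOrder.H := by
  refine ⟨simple_equiv Cfsg.Agent.RuLat.Main.main.2.2 Cfsg.Agent.RuLat.Main.equiv.symm,
    Cfsg.Agent.SporadicB.RuOrder.card_H.trans (by norm_num), ?_,
    Cfsg.Agent.OddHalf.Table.OutRu.x, Cfsg.Agent.OddHalf.Table.OutRu.orderOf_x, ?_⟩
  · intro α
    obtain ⟨g, hg⟩ := Cfsg.Agent.OddHalf.Table.OutRu.inner α
    exact ⟨g, hg.symm⟩
  · intro c hc
    obtain ⟨i, hi⟩ := Cfsg.Agent.OddHalf.Table.OutRu.cent_x' c hc
    rw [hi]
    exact pow_mem (mem_zpowers _) i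

theorem facts {K : Type u} [Group K] (h : Spor.IsoRu K) : Facts K := by
  obtain ⟨e⟩ := h
  exact facts_H.congr (e.trans Cfsg.Agent.RuLat.Main.equiv)

variable {K : Type u} [Group K] [Finite K]

theorem center_bot (hs : IsSimpleGroup K) (hK : ¬ IsMulCommutative K) : center K = ⊥ := by
  rcases (inferInstance : (center K).Normal).eq_bot_or_eq_top with h5 | h5
  · exact h5
  · exfalso
    apply hK
    refine ⟨⟨fun a b => ?_⟩⟩
    have h6 : b ∈ center K := by rw [h5]; trivial
    exact mem_center_iff.1 h6 a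

theorem twentynine (h : Facts K) : CYm 29 18 K := by
  intro x hx hxs hPC hFC
  obtain ⟨hs, hcK, hin, y, hy, hyc⟩ := h
  have hK := not_comm hs hcK (by norm_num)
  have hc : Nat.card (centralizer ({y} : Set K)) = 29 * 1 := by
    have h1 : centralizer ({y} : Set K) = zpowers y := by
      apply le_antisymm
      · intro c hc
        exact hyc c (mem_centralizer_singleton_iff.1 hc)
      · rw [zpowers_le]
        exact mem_centralizer_singleton_iff.2 rfl
    rw [h1, Nat.card_zpowers, hy]
  have hf : fus x y = 14 := H809.PiSpor.fus_eq_of_card (center_bot hs hK) (by norm_num) hy hc (by norm_num) hcK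
    (by norm_num) (by decide) (by norm_num) (by norm_num) (hin x)
  exact false_of_fus hK (by norm_num) (cyc (by norm_num) (by rw [hcK]; norm_num) (by rw [hcK]; norm_num)) hx hxs hy
    (by rw [hf]; norm_num) hFC

/-- **the row of the Rudvalis group** -/
theorem rowP_Ru (h : Spor.IsoRu K) (h3 : NCs 3 K) (h5 : NCs 5 K) : RowP K := by
  have F := facts h
  have hcK : Nat.card K = 145926144000 := F.2.1.trans (by norm_num)
  have hs := F.1
  have hK := not_comm hs hcK (by norm_num)
  refine rowP_of_list' hcK [(3, 11), (5, 11), (7, 6), (13, 12), (29, 18)] ?_ (by decide +kernel) ?_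
  · intro s hs' h3' hd
    have h4 : s ∈ [2, 3, 5, 7, 13, 29] := exists_of_prod _ (by simp; norm_num) 14 (by norm_num) hs' hd
    simp only [List.mem_cons, List.not_mem_nil, or_false] at h4
    rcases h4 with rfl | rfl | rfl | rfl | rfl | rfl
    · omega
    all_goals simp
  · intro x hx
    simp only [List.mem_cons, List.not_mem_nil, or_false] at hx
    rcases hx with rfl | rfl | rfl | rfl | rfl
    · exact h3
    · exact h5
    · exact cym_cyclic hK (by norm_num) (by rw [hcK]; norm_num) (by rw [hcK]; norm_num) le_rfl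
    · exact cym_cyclic hK (by norm_num) (by rw [hcK]; norm_num) (by rw [hcK]; norm_num) le_rfl
    · exact twentynine F

end Cfsg.Agent.H273.PiSpor.Ru
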