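import Cfsg.Agent.H273.PiSpor.RowTool
import Cfsg.Agent.H55.OutGen
import Cfsg.Agent.H303.MaxTh
import Cfsg.Agent.H49.ThFiveDat
import Cfsg.Agent.S2083

/-!
# S4324, sporadic rows: the Thompson group (helper273)

`s = 31`: all automorphisms are inner, at most `15` fused generators, and `18` conjugates (`r ≥ 11`).
-/

set_option autoImplicit false

namespace Cfsg.Agent.H273.PiSpor.Th

open Subgroup Cfsg Cfsg.Agent.H216.Pi Cfsg.Agent.H209.PiSpor

universe u

/-- an element of order `p` acting on a group of order prime to `p` : the fixed points -/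
theorem modEq_fix {G : Type*} [Group G] [Finite G] {p : ℕ} (hp : p.Prime) {C : Subgroup G} {u : G} (hu : orderOf u = p)
    (hC : ∀ c ∈ C, u * c * u⁻¹ ∈ C) :
    Nat.card C ≡ Nat.card ↥(C ⊓ centralizer ({u} : Set G)) [MOD p] := by
  classical
  have := Fact.mk hp
  have hn : ∀ (n : ℤ) (c : G), c ∈ C → u ^ n * c * (u ^ n)⁻¹ ∈ C := by
    have h1 : ∀ (n : ℕ) (c : G), c ∈ C → u ^ n * c * (u ^ n)⁻¹ ∈ C := by
      intro n
      induction n with
      | zero => intro c hc; simpa using hc
      | succ n ih =>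
        intro c hc
        have h2 := hC _ (ih c hc)
        have h3 : u ^ (n + 1) * c * (u ^ (n + 1))⁻¹ = u * (u ^ n * c * (u ^ n)⁻¹) * u⁻¹ := by
          rw [pow_succ']; group
        rw [h3]
        exact h2
    intro n c hc
    have h2 : ∃ m : ℕ, u ^ n = u ^ m := by
      have h3 : u ^ n ∈ zpowers u := zpow_mem (mem_zpowers u) n
      rw [mem_zpowers_iff_mem_range_orderOf] at h3
      obtain ⟨m, -, hm⟩ := Finset.mem_image.1 h3
      exact ⟨m, hm.symm⟩
    obtain ⟨m, hm⟩ := h2
    rw [hm]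
    exact h1 m c hc
  let _ : MulAction (zpowers u) C :=
    { smul := fun a c => ⟨(a : G) * c * (a : G)⁻¹, by
        obtain ⟨n, hn'⟩ := a.2
        have hn'' : u ^ n = (a : G) := hn'
        rw [← hn'']
        exact hn n c c.2⟩
      one_smul := fun c => Subtype.ext (by
        show (1 : G) * c * (1 : G)⁻¹ = c
        group)
      mul_smul := fun a b c => Subtype.ext (by
        show ((a * b : zpowers u) : G) * c * ((a * b : zpowers u) : G)⁻¹ = (a : G) * ((b : G) * c * (b : G)⁻¹) * (a : G)⁻¹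
        rw [Subgroup.coe_mul]
        group) }
  have hsm : ∀ (a : zpowers u) (c : C), ((a • c : C) : G) = (a : G) * c * (a : G)⁻¹ := fun _ _ => rfl
  have hpg : IsPGroup p (zpowers u) := IsPGroup.of_card (n := 1) (by rw [Nat.card_zpowers, hu, pow_one])
  have h1 := hpg.card_modEq_card_fixedPoints C
  have e : Nat.card (MulAction.fixedPoints (zpowers u) C) = Nat.card ↥(C ⊓ centralizer ({u} : Set G)) := ?_
  · rw [e] at h1
    exact h1
  refine Nat.card_congr ⟨fun c => ⟨((c : C) : G), (c : C).2, ?_⟩, fun c => ⟨⟨c, c.2.1⟩, ?_⟩, fun _ => rfl, fun _ => rfl⟩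
  · have h2 := congrArg (fun d : C => (d : G)) (c.2 ⟨u, mem_zpowers u⟩)
    have h3 : u * ((c : C) : G) * u⁻¹ = ((c : C) : G) := h2
    rw [mul_inv_eq_iff_eq_mul] at h3
    exact mem_centralizer_singleton_iff.2 h3.symm
  · rintro ⟨_, n, rfl⟩
    apply Subtype.ext
    show u ^ n * (c : G) * (u ^ n)⁻¹ = c
    have h2 : Commute (c : G) u := mem_centralizer_singleton_iff.1 c.2.2
    rw [← (h2.zpow_right n).eq, mul_inv_cancel_right]

theorem card_cent_conj {G : Type*} [Group G] (g u : G) :
    Nat.card (centralizer ({u} : Set G)) = Nat.card (centralizer ({g * u * g⁻¹} : Set G)) := by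
  refine Nat.card_congr ⟨fun c => ⟨g * c * g⁻¹, ?_⟩, fun c => ⟨g⁻¹ * c * g, ?_⟩, fun c => Subtype.ext ?_,
    fun c => Subtype.ext ?_⟩
  · have h1 : (c : G) * u = u * c := mem_centralizer_singleton_iff.1 c.2
    rw [mem_centralizer_singleton_iff]
    calc g * (c : G) * g⁻¹ * (g * u * g⁻¹) = g * (c * u) * g⁻¹ := by group
      _ = g * u * g⁻¹ * (g * c * g⁻¹) := by rw [h1]; group
  · have h1 : (c : G) * (g * u * g⁻¹) = g * u * g⁻¹ * c := mem_centralizer_singleton_iff.1 c.2
    rw [mem_centralizer_singleton_iff]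
    calc g⁻¹ * (c : G) * g * u = g⁻¹ * (c * (g * u * g⁻¹)) * g := by group
      _ = u * (g⁻¹ * (c : G) * g) := by rw [h1]; group
  · show g⁻¹ * (g * (c : G) * g⁻¹) * g = c
    group
  · show g * (g⁻¹ * (c : G) * g) * g⁻¹ = c
    group

/-- the fused generators of order 31 in `Th` -/
theorem fus_le {y : Cfsg.Spor.Th} (hy : orderOf y = 31) [Finite Cfsg.Spor.Th] {x : MulAut Cfsg.Spor.Th}
    (hx : x ∈ (MulAut.conj : Cfsg.Spor.Th →* MulAut Cfsg.Spor.Th).range) : fus x y ≤ 15 := by
  have f5 : Fact (Nat.Prime 5) := ⟨by norm_num⟩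
  have hcK : Nat.card Cfsg.Spor.Th = 31 * 2927288512512000 := H303.MaxTh.card.trans (by decide)
  obtain ⟨hC, hN, h465⟩ := H303.MaxTh.data31 (R := zpowers y) (by rw [Nat.card_zpowers, hy])
  rw [H904.SylOne.centralizer_zpowers_eq] at hC
  have hC' : Nat.card (centralizer ({y} : Set Cfsg.Spor.Th)) ∣ 31 * 3 ^ 7 := hC
  have h31 : 31 ∣ Nat.card (centralizer ({y} : Set Cfsg.Spor.Th)) := by
    have h1 := Subgroup.orderOf_dvd_natCard (centralizer ({y} : Set Cfsg.Spor.Th)) (x := y)
      (mem_centralizer_singleton_iff.2 rfl)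
    rwa [hy] at h1
  obtain ⟨c, hc⟩ := h31
  rw [hc] at hC'
  obtain ⟨a, ha, rfl⟩ := (Nat.dvd_prime_pow Nat.prime_three).1 (Nat.dvd_of_mul_dvd_mul_left (by norm_num) hC')
  have hfus : ∀ e : ℕ, e * 3 ^ a ≡ 2927288512512000 [MOD 31] → 0 < e → e < 31 → fus x y = e := fun e h1 h2 h3 =>
    H809.PiSpor.fus_eq_of_card H303.MaxTh.center (by norm_num) hy hc (by
      intro h4
      have h5 := (by norm_num : Nat.Prime 31).dvd_of_dvd_pow h4
      norm_num at h5) hcK (by norm_num) h1 h2 h3 hx
  have hNC : fus x y * (31 * 3 ^ a) = Nat.card (normalizer ((zpowers y : Subgroup Cfsg.Spor.Th) : Set Cfsg.Spor.Th)) := by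
    rw [← hc, fus_inner hx y]
  have hdv : fus x y * (31 * 3 ^ a) ∣ 677970 := by
    rw [hNC]
    exact hN.trans (by decide +kernel)
  have h6 : a ≠ 6 := by
    rintro rfl
    have h30 := hfus 30 (by decide) (by norm_num) (by norm_num)
    rw [h30] at hNC
    obtain ⟨u, hu⟩ := exists_prime_orderOf_dvd_card'
      (G := normalizer ((zpowers y : Subgroup Cfsg.Spor.Th) : Set Cfsg.Spor.Th)) 5 (by rw [← hNC]; norm_num)
    have hu' : orderOf (u : Cfsg.Spor.Th) = 5 := by rw [Subgroup.orderOf_coe, hu]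
    have huC : ∀ c ∈ centralizer ({y} : Set Cfsg.Spor.Th),
        (u : Cfsg.Spor.Th) * c * (u : Cfsg.Spor.Th)⁻¹ ∈ centralizer ({y} : Set Cfsg.Spor.Th) := by
      intro c hcc
      have h1 : Commute c y := mem_centralizer_singleton_iff.1 hcc
      have h2 : (u : Cfsg.Spor.Th)⁻¹ * y * (u : Cfsg.Spor.Th) ∈ zpowers y := by
        have h3 := (mem_normalizer_iff.1 (inv_mem u.2) y).1 (mem_zpowers y)
        rwa [inv_inv] at h3
      obtain ⟨j, hj⟩ := h2
      have hj' : y ^ j = (u : Cfsg.Spor.Th)⁻¹ * y * (u : Cfsg.Spor.Th) := hj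
      have h4 : c * ((u : Cfsg.Spor.Th)⁻¹ * y * (u : Cfsg.Spor.Th)) = ((u : Cfsg.Spor.Th)⁻¹ * y * (u : Cfsg.Spor.Th)) * c := by
        rw [← hj']
        exact (h1.zpow_right j).eq
      rw [mem_centralizer_singleton_iff]
      calc (u : Cfsg.Spor.Th) * c * (u : Cfsg.Spor.Th)⁻¹ * y
          = (u : Cfsg.Spor.Th) * (c * ((u : Cfsg.Spor.Th)⁻¹ * y * (u : Cfsg.Spor.Th))) * (u : Cfsg.Spor.Th)⁻¹ := by group
        _ = y * ((u : Cfsg.Spor.Th) * c * (u : Cfsg.Spor.Th)⁻¹) := by rw [h4]; group
    have h1 := modEq_fix (by norm_num) hu' huC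
    have h2 : Nat.card ↥(centralizer ({y} : Set Cfsg.Spor.Th) ⊓ centralizer ({(u : Cfsg.Spor.Th)} : Set Cfsg.Spor.Th)) ∣ 3 := by
      have h3 : Nat.card ↥(centralizer ({y} : Set Cfsg.Spor.Th) ⊓ centralizer ({(u : Cfsg.Spor.Th)} : Set Cfsg.Spor.Th)) ∣
          31 * 3 ^ 6 := by
        rw [← hc]; exact card_dvd_of_le inf_le_left
      have h4 : Nat.card ↥(centralizer ({y} : Set Cfsg.Spor.Th) ⊓ centralizer ({(u : Cfsg.Spor.Th)} : Set Cfsg.Spor.Th)) ∣
          3000 := by
        obtain ⟨hfin, x', y', z, b, D⟩ := H49.ThFive.exists_dat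
        obtain ⟨g, hg⟩ := D.all hu'
        have h5 : Nat.card (centralizer ({(u : Cfsg.Spor.Th)} : Set Cfsg.Spor.Th)) = 3000 := by
          rw [card_cent_conj g, hg, D.card_C]
        rw [← h5]
        exact card_dvd_of_le inf_le_right
      have h5 := Nat.dvd_gcd h3 h4
      have h6 : Nat.gcd (31 * 3 ^ 6) 3000 = 3 := by decide +kernel
      rwa [h6] at h5
    rw [hc] at h1
    rcases (Nat.dvd_prime Nat.prime_three).1 h2 with h3 | h3
    · rw [h3] at h1
      exact absurd h1 (by decide)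
    · rw [h3] at h1
      exact absurd h1 (by decide)
  interval_cases a
  · rw [hfus 15 (by decide) (by norm_num) (by norm_num)]
  · rw [hfus 5 (by decide) (by norm_num) (by norm_num)]; norm_num
  · rw [hfus 12 (by decide) (by norm_num) (by norm_num)]; norm_num
  · rw [hfus 4 (by decide) (by norm_num) (by norm_num)]; norm_num
  · rw [hfus 22 (by decide) (by norm_num) (by norm_num)] at hdv
    norm_num at hdv
  · rw [hfus 28 (by decide) (by norm_num) (by norm_num)] at hdv
    norm_num at hdv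
  · exact absurd rfl h6
  · rw [hfus 10 (by decide) (by norm_num) (by norm_num)]; norm_num

/-- the facts -/
def Facts (K : Type*) [Group K] : Prop := IsSimpleGroup K ∧ Nat.card K = 90745943887872000 ∧
  (∀ α : MulAut K, α ∈ (MulAut.conj : K →* MulAut K).range) ∧ ∃ y : K, orderOf y = 31 ∧
    Nat.card (normalizer ((zpowers y : Subgroup K) : Set K)) ≤ 15 * Nat.card (centralizer ({y} : Set K))

theorem simple_equiv {X Y : Type*} [Group X] [Group Y] (h : IsSimpleGroup Y) (e : X ≃* Y) : IsSimpleGroup X :=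
  e.isSimpleGroup

theorem card_normalizer_equiv {K : Type*} {L : Type*} [Group K] [Group L] (e : K ≃* L) (y : L) :
    Nat.card (normalizer ((zpowers (e.symm y) : Subgroup K) : Set K)) =
      Nat.card (normalizer ((zpowers y : Subgroup L) : Set L)) := by
  have key : ∀ g : K, g ∈ normalizer ((zpowers (e.symm y) : Subgroup K) : Set K) ↔
      e g ∈ normalizer ((zpowers y : Subgroup L) : Set L) := by
    intro g
    have h1 : ∀ a : K, a ∈ zpowers (e.symm y) ↔ e a ∈ zpowers y := by
      intro a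
      constructor
      · rintro ⟨n, rfl⟩
        refine ⟨n, ?_⟩
        show y ^ n = e (e.symm y ^ n)
        rw [map_zpow, e.apply_symm_apply]
      · rintro ⟨n, hn⟩
        refine ⟨n, e.injective ?_⟩
        show e (e.symm y ^ n) = e a
        rw [map_zpow, e.apply_symm_apply]
        exact hn
    rw [mem_normalizer_iff, mem_normalizer_iff]
    constructor
    · intro h b
      obtain ⟨a, rfl⟩ := e.surjective b
      rw [← h1, ← map_inv, ← map_mul, ← map_mul, ← h1]
      exact h a
    · intro h a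
      have h2 := h (e a)
      rw [← h1, ← map_inv, ← map_mul, ← map_mul, ← h1] at h2
      exact h2
  exact Nat.card_congr (e.toEquiv.subtypeEquiv key)

theorem card_centralizer_equiv {K : Type*} {L : Type*} [Group K] [Group L] (e : K ≃* L) (y : L) :
    Nat.card (centralizer ({e.symm y} : Set K)) = Nat.card (centralizer ({y} : Set L)) := by
  refine Nat.card_congr (e.toEquiv.subtypeEquiv fun g => ?_)
  show g ∈ centralizer ({e.symm y} : Set K) ↔ e g ∈ centralizer ({y} : Set L)
  rw [mem_centralizer_singleton_iff, mem_centralizer_singleton_iff]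
  constructor
  · intro h
    have := congrArg e h
    rwa [map_mul, map_mul, e.apply_symm_apply] at this
  · intro h
    apply e.injective
    rw [map_mul, map_mul, e.apply_symm_apply, h]

theorem Facts.congr {K : Type*} {L : Type*} [Group K] [Group L] (e : K ≃* L) (h : Facts L) : Facts K := by
  obtain ⟨h1, h2, h3, y, hy, hc⟩ := h
  refine ⟨simple_equiv h1 e, (Nat.card_congr e.toEquiv).trans h2, ?_, e.symm y, by rw [MulEquiv.orderOf_eq, hy], ?_⟩
  · have h4 : (MulAut.conj : K →* MulAut K).range.index = 1 := by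
      rw [H55.OutGen.index_range_conj_congr e, index_eq_one, eq_top_iff]
      exact fun α _ => h3 α
    intro α
    rw [index_eq_one] at h4
    rw [h4]
    trivial
  · rw [card_normalizer_equiv, card_centralizer_equiv]
    exact hc

theorem facts_Th : Facts Cfsg.Spor.Th := by
  have hfin := H303.MaxTh.fin
  have f31 : Fact (Nat.Prime 31) := ⟨by norm_num⟩
  have hcK : Nat.card Cfsg.Spor.Th = 90745943887872000 := H303.MaxTh.card.trans (by decide)
  obtain ⟨y, hy⟩ := exists_prime_orderOf_dvd_card' (G := Cfsg.Spor.Th) 31 (by rw [hcK]; norm_num)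
  refine ⟨H303.MaxTh.simple, hcK, ?_, y, hy, ?_⟩
  · intro α
    have h4 : (MulAut.conj : Cfsg.Spor.Th →* MulAut Cfsg.Spor.Th).range.index = 1 := Cfsg.Agent.S2083.result
    rw [index_eq_one] at h4
    rw [h4]
    trivial
  · rw [← fus_inner (x := (1 : MulAut Cfsg.Spor.Th)) (one_mem _) y]
    exact Nat.mul_le_mul_right _ (fus_le hy (one_mem _))

theorem facts {K : Type u} [Group K] (h : Spor.IsoTh K) : Facts K := by
  obtain ⟨e⟩ := h
  exact facts_Th.congr e

variable {K : Type u} [Group K] [Finite K]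

theorem thirtyone (h : Facts K) : CYm 31 18 K := by
  intro x hx hxs hPC hFC
  obtain ⟨hs, hcK, hin, y, hy, hyc⟩ := h
  have hK := not_comm hs hcK (by norm_num)
  rw [← fus_inner (hin x) y] at hyc
  have hf : fus x y ≤ 15 := Nat.le_of_mul_le_mul_right hyc Nat.card_pos
  exact false_of_fus hK (by norm_num) (cyc (by norm_num) (by rw [hcK]; norm_num) (by rw [hcK]; norm_num)) hx hxs hy
    (by omega) hFC

/-- **the row of the Thompson group** -/
theorem rowP_Th (h : Spor.IsoTh K) (h3 : NCs 3 K) (h5 : NCs 5 K) (h7 : NCs 7 K) : RowP K := by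
  have F := facts h
  have hcK := F.2.1
  have hs := F.1
  have hK := not_comm hs hcK (by norm_num)
  refine rowP_of_list' hcK [(3, 11), (5, 11), (7, 11), (13, 12), (19, 18), (31, 18)] ?_ (by decide +kernel) ?_
  · intro s hs' h3' hd
    have h4 : s ∈ [2, 3, 5, 7, 13, 19, 31] := exists_of_prod _ (by simp; norm_num) 15 (by norm_num) hs' hd
    simp only [List.mem_cons, List.not_mem_nil, or_false] at h4
    rcases h4 with rfl | rfl | rfl | rfl | rfl | rfl | rfl
    · omega
    all_goals simp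
  · intro x hx
    simp only [List.mem_cons, List.not_mem_nil, or_false] at hx
    rcases hx with rfl | rfl | rfl | rfl | rfl | rfl
    · exact h3
    · exact h5
    · exact h7
    · exact cym_cyclic hK (by norm_num) (by rw [hcK]; norm_num) (by rw [hcK]; norm_num) le_rfl
    · exact cym_cyclic hK (by norm_num) (by rw [hcK]; norm_num) (by rw [hcK]; norm_num) le_rfl
    · exact thirtyone F

end Cfsg.Agent.H273.PiSpor.Th
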