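import Cfsg.Agent.H273.PiSpor.RowTool
import Cfsg.Agent.H488.PBRow.TitsThree
import Cfsg.Agent.H246.TitsInner
import Cfsg.Agent.S1074

/-!
# S4324, sporadic rows: the Tits group (helper273)

`s = 13`: all automorphisms of prime order are inner, at most `11` fused generators.
-/

set_option autoImplicit false

namespace Cfsg.Agent.H273.PiSpor.Tits

open Subgroup Cfsg Cfsg.Agent.H216.Pi Cfsg.Agent.H209.PiSpor

universe u

theorem simple_equiv {X Y : Type*} [Group X] [Group Y] (h : IsSimpleGroup Y) (e : X ≃* Y) : IsSimpleGroup X :=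
  e.isSimpleGroup

variable {K : Type u} [Group K] [Finite K]

theorem simple (h : Lie.IsoTits K) : IsSimpleGroup K := by
  obtain ⟨e⟩ := h
  exact simple_equiv Cfsg.Agent.S1074.result.2.1 e

/-- the centralizer of an element of order 13 -/
theorem cent13 (h : Lie.IsoTits K) {y : K} (hy : orderOf y = 13) :
    ∃ i ≤ 11, Nat.card (centralizer ({y} : Set K)) = 13 * 2 ^ i := by
  have O := CpAutTits.Row.out h
  have hcK := O.card
  have hdv : Nat.card (centralizer ({y} : Set K)) ∣ 2 ^ 11 * 3 ^ 3 * 5 ^ 2 * 13 := by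
    rw [← hcK]; exact card_subgroup_dvd_card _
  have h13 : 13 ∣ Nat.card (centralizer ({y} : Set K)) := by
    have h1 := Subgroup.orderOf_dvd_natCard (centralizer ({y} : Set K)) (x := y) (mem_centralizer_singleton_iff.2 rfl)
    rwa [hy] at h1
  have hno : ∀ {p N : ℕ}, p.Prime → ¬ 13 ∣ N → (∀ z : K, orderOf z = p → Nat.card (centralizer ({z} : Set K)) = N) →
      ¬ p ∣ Nat.card (centralizer ({y} : Set K)) := by
    intro p N hp hN hz hd
    have := Fact.mk hp
    obtain ⟨z, hz'⟩ := exists_prime_orderOf_dvd_card' (G := centralizer ({y} : Set K)) p hd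
    have h1 : orderOf (z : K) = p := by rw [Subgroup.orderOf_coe, hz']
    have h2 := Subgroup.orderOf_dvd_natCard (centralizer ({(z : K)} : Set K)) (x := y)
      (mem_centralizer_singleton_iff.2 (mem_centralizer_singleton_iff.1 z.2).symm)
    rw [hy, hz _ h1] at h2
    exact hN h2
  have h3 := hno Nat.prime_three (by norm_num) (fun z hz => H488.PBRow.TitsThree.card_cent_three h hz)
  have h5 := hno Nat.prime_five (by norm_num) (fun z hz => O.cent z hz)
  obtain ⟨c, hc⟩ := h13
  rw [hc] at hdv h3 h5 ⊢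
  have h2 : c ∣ 2 ^ 11 * 3 ^ 3 * 5 ^ 2 := by
    refine Nat.dvd_of_mul_dvd_mul_left (by norm_num : 0 < 13) ?_
    rw [mul_comm 13 (2 ^ 11 * 3 ^ 3 * 5 ^ 2)]
    exact hdv
  have c3 : Nat.Coprime c (3 ^ 3) := Nat.Coprime.pow_right _ (Nat.coprime_comm.1
      ((Nat.Prime.coprime_iff_not_dvd (by norm_num)).2 (fun h => h3 (h.mul_left 13))))
  have c5 : Nat.Coprime c (5 ^ 2) := Nat.Coprime.pow_right _ (Nat.coprime_comm.1
      ((Nat.Prime.coprime_iff_not_dvd (by norm_num)).2 (fun h => h5 (h.mul_left 13))))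
  obtain ⟨i, hi, hi'⟩ := (Nat.dvd_prime_pow Nat.prime_two).1 (c3.dvd_of_dvd_mul_right (c5.dvd_of_dvd_mul_right h2))
  exact ⟨i, hi, by rw [hi']⟩

theorem thirteen (h : Lie.IsoTits K) : CYm 13 11 K := by
  intro x hx hxs hPC hFC
  have hs := simple h
  have hcK : Nat.card K = 13 * 1382400 := (CpAutTits.Row.out h).card.trans (by norm_num)
  have hK := not_comm hs hcK (by norm_num)
  have hcen : center K = ⊥ := CpAutTits.Row.center_bot (CpAutTits.Row.out h)
  have hxi : x ∈ (MulAut.conj : K →* MulAut K).range := by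
    by_cases h2 : orderOf x = 2
    · obtain ⟨k, hk⟩ := Cfsg.Agent.H246.TitsInner.inner_iso h x (by rw [← pow_two, ← h2, pow_orderOf_eq_one])
      exact ⟨k, hk.symm⟩
    · obtain ⟨k, hk⟩ := Cfsg.Agent.CpAutTits.Row.autInner h hx h2 x rfl
      exact ⟨k, hk.symm⟩
  have f13 : Fact (Nat.Prime 13) := ⟨by norm_num⟩
  obtain ⟨y, hy⟩ := exists_prime_orderOf_dvd_card' (G := K) 13 (by rw [hcK]; norm_num)
  obtain ⟨i, hi, hc⟩ := cent13 h hy
  have hfus : ∀ e : ℕ, e * 2 ^ i ≡ 1382400 [MOD 13] → 0 < e → e < 13 → fus x y = e := fun e h1 h2 h3 =>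
    H809.PiSpor.fus_eq_of_card hcen (by norm_num) hy hc (by
      intro h4
      have h5 := (by norm_num : Nat.Prime 13).dvd_of_dvd_pow h4
      norm_num at h5) hcK (by norm_num) h1 h2 h3 hxi
  have hle : fus x y ≤ 11 := by
    have hN : fus x y * (13 * 2 ^ i) ∣ 13 * 1382400 := by
      rw [← hc, fus_inner hxi y, ← hcK]
      exact card_subgroup_dvd_card _
    interval_cases i
    · rw [hfus 6 (by decide) (by norm_num) (by norm_num)]; norm_num
    · rw [hfus 3 (by decide) (by norm_num) (by norm_num)]; norm_num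
    · rw [hfus 8 (by decide) (by norm_num) (by norm_num)]; norm_num
    · rw [hfus 4 (by decide) (by norm_num) (by norm_num)]; norm_num
    · rw [hfus 2 (by decide) (by norm_num) (by norm_num)]; norm_num
    · rw [hfus 1 (by decide) (by norm_num) (by norm_num)]; norm_num
    · rw [hfus 7 (by decide) (by norm_num) (by norm_num)]; norm_num
    · rw [hfus 10 (by decide) (by norm_num) (by norm_num)]; norm_num
    · rw [hfus 5 (by decide) (by norm_num) (by norm_num)]; norm_num
    · rw [hfus 9 (by decide) (by norm_num) (by norm_num)]; norm_num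
    · rw [hfus 11 (by decide) (by norm_num) (by norm_num)]
    · rw [hfus 12 (by decide) (by norm_num) (by norm_num)] at hN
      norm_num at hN
  exact false_of_fus hK (by norm_num) (cyc (by norm_num) (by rw [hcK]; norm_num) (by rw [hcK]; norm_num)) hx hxs hy hle hFC

/-- **the row of the Tits group** -/
theorem rowP_Tits (h : Lie.IsoTits K) (h3 : NCs 3 K) (h5 : NCs 5 K) : RowP K := by
  have hcK : Nat.card K = 17971200 := (CpAutTits.Row.out h).card.trans (by norm_num)
  refine rowP_of_list' hcK [(3, 11), (5, 11), (13, 11)] ?_ (by decide +kernel) ?_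
  · intro s hs' h3' hd
    have h4 : s ∈ [2, 3, 5, 13] := exists_of_prod _ (by simp; norm_num) 11 (by norm_num) hs' hd
    simp only [List.mem_cons, List.not_mem_nil, or_false] at h4
    rcases h4 with rfl | rfl | rfl | rfl
    · omega
    all_goals simp
  · intro x hx
    simp only [List.mem_cons, List.not_mem_nil, or_false] at hx
    rcases hx with rfl | rfl | rfl
    · exact h3
    · exact h5
    · exact thirteen h

end Cfsg.Agent.H273.PiSpor.Tits
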