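import Cfsg.Agent.H393.PiSpor.RowTool
import Cfsg.Agent.H809.PiSpor.Fus

/-!
# S4324, sporadic rows: rows where the number of fused generators is needed (helper273)

* `rowP_of_list'` : the row from a list of pairs `(s, m)` (`m` conjugates for `s`);
* `cyc`, `cym_cyclic`, `false_of_fus` : cyclic Sylow subgroups;
* `fus_inner` : `fus x y * |C(y)| = |N(⟨y⟩)|` for inner `x`; `fus_outer_le`.
-/

set_option autoImplicit false

namespace Cfsg.Agent.H273.PiSpor

open Subgroup Cfsg Cfsg.Agent.H216.Pi Cfsg.Agent.H209.PiSpor Cfsg.Agent.H393.PiSpor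

universe u

/-- a simple group of order not a prime is not commutative -/
theorem not_comm {K : Type*} [Group K] [Finite K] (hs : IsSimpleGroup K) {N : ℕ} (hN : Nat.card K = N)
    (h : ¬ N.Prime) : ¬ IsMulCommutative K := by
  intro hc
  have := hs
  let _ : CommGroup K := { ‹Group K› with mul_comm := hc.is_comm.comm }
  exact h (hN ▸ IsSimpleGroup.prime_card)

/-- no counterexample for `s`, with `m` conjugates -/
def CYm (s m : ℕ) (K : Type*) [Group K] : Prop :=
  ∀ x : MulAut K, (orderOf x).Prime → orderOf x ≠ s → PC s x → FC s m x → False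

theorem CYm.of_ncs {s : ℕ} {K : Type*} [Group K] (h : NCs s K) : CYm s (mm s) K := h

theorem rowP_of_list' {K : Type u} [Group K] [Finite K] {N : ℕ} (hN : Nat.card K = N) (L : List (ℕ × ℕ))
    (hL : ∀ s : ℕ, s.Prime → 3 ≤ s → s ∣ N → ∃ m, (s, m) ∈ L)
    (hchk : (L.all fun x => (x.2.ble (mm x.1)) && (List.range x.1).all (okr N x.2)) = true)
    (h : ∀ x ∈ L, CYm x.1 x.2 K) : RowP K := by
  refine rowP_of fun s hs h3 hd => ?_
  obtain ⟨m, hm⟩ := hL s hs h3 (by rwa [hN] at hd)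
  have h1 := List.all_eq_true.1 hchk _ hm
  rw [Bool.and_eq_true, List.all_eq_true] at h1
  have h2 := h _ hm
  refine ⟨fun x hx hxs hPC hFC => h2 x hx hxs hPC (hFC.mono (Nat.ble_eq ▸ h1.1)), ?_⟩
  intro r hr hr3 hrs hrd x hx hxs hPC hFC
  exact h2 x hx hxs hPC (hFC.mono (le_of_okr (h1.2 r (List.mem_range.2 hrs)) hr hr3 (by rwa [hN] at hrd)))

/-- the odd primes dividing a product -/
theorem exists_of_prod {N : ℕ} (P : List ℕ) (hP : ∀ p ∈ P, p.Prime) (e : ℕ) (hNP : N ∣ P.prod ^ e) {s : ℕ}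
    (hs : s.Prime) (hd : s ∣ N) : s ∈ P := by
  have h1 := hs.dvd_of_dvd_pow (hd.trans hNP)
  obtain ⟨p, hp, h2⟩ := (Prime.dvd_prod_iff hs.prime).1 h1
  rwa [(Nat.prime_dvd_prime_iff_eq hs (hP p hp)).1 h2]

theorem cyc {K : Type*} [Group K] [Finite K] {s : ℕ} (hs : s.Prime) (hd : s ∣ Nat.card K) (h2 : ¬ s * s ∣ Nat.card K)
    (P : Sylow s K) : IsCyclic (P : Subgroup K) := by
  have := Fact.mk hs
  have h1 : Nat.card P = s := by
    obtain ⟨k, hk⟩ := IsPGroup.iff_card.1 P.isPGroup'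
    have h3 : s ∣ Nat.card P := P.dvd_card_of_dvd_card hd
    have h4 : Nat.card P ∣ Nat.card K := card_subgroup_dvd_card _
    rw [hk] at h3 h4 ⊢
    match k with
    | 0 =>
      rw [pow_zero] at h3
      exact absurd (Nat.dvd_one.1 h3) hs.one_lt.ne'
    | 1 => rw [pow_one]
    | k + 2 =>
      exfalso
      apply h2
      exact (show s * s ∣ s ^ (k + 2) from ⟨s ^ k, by ring⟩).trans h4
  exact isCyclic_of_prime_card h1

theorem cym_cyclic {K : Type u} [Group K] [Finite K] [IsSimpleGroup K] (hK : ¬ IsMulCommutative K) {s m : ℕ}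
    (hs : s.Prime) (hd : s ∣ Nat.card K) (h2 : ¬ s * s ∣ Nat.card K) (hm : s - 1 ≤ m) : CYm s m K :=
  fun _ hx hxs _ hFC => false_of_cyclic hK hs hd (cyc hs hd h2) hx hxs hm hFC

theorem false_of_fus {K : Type u} [Group K] [Finite K] [IsSimpleGroup K] (hK : ¬ IsMulCommutative K) {s m : ℕ}
    (hs : s.Prime) (hcyc : ∀ P : Sylow s K, IsCyclic (P : Subgroup K)) {x : MulAut K} (hx : (orderOf x).Prime)
    (hxs : orderOf x ≠ s) {y : K} (hy : orderOf y = s) (hf : fus x y ≤ m) (h : FC s m x) : False :=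
  H326.PiC.false_of_fus_of funHyp prodHyp hK hs hcyc hx hxs hy hf h

theorem fus_inner {K : Type u} [Group K] [Finite K] {x : MulAut K} (hx : x ∈ (MulAut.conj : K →* MulAut K).range)
    (y : K) : fus x y * Nat.card (centralizer ({y} : Set K)) =
      Nat.card (normalizer ((zpowers y : Subgroup K) : Set K)) := by
  rw [H809.PiSpor.fus_eq_ncard hx y, H809.PiSpor.card_normalizer y]

/-- if some outer automorphism fixes `y`, outer automorphisms fuse no more -/
theorem fus_outer_le {K : Type u} [Group K] [Finite K] (hi : (MulAut.conj : K →* MulAut K).range.index = 2)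
    (x : MulAut K) {y : K} {β : MulAut K} (hβ : β ∉ (MulAut.conj : K →* MulAut K).range) (hβy : β y = y) :
    fus x y ≤ fus (1 : MulAut K) y := by
  rw [H809.PiSpor.fus_eq_ncard (one_mem _) y]
  unfold fus
  rw [← Nat.card_coe_set_eq]
  refine Nat.card_le_card_of_injective (fun z => ⟨z.1, z.2.1, ?_⟩) ?_
  · obtain ⟨α, -, hα⟩ := z.2.2
    by_cases hαi : α ∈ (MulAut.conj : K →* MulAut K).range
    · obtain ⟨k, rfl⟩ := hαi
      exact ⟨k, hα⟩
    · obtain ⟨k, hk⟩ := (Subgroup.mul_mem_iff_of_index_two hi).2 (iff_of_false hαi hβ)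
      refine ⟨k, ?_⟩
      have h1 : (MulAut.conj k) y = (α * β) y := by rw [hk]
      rw [MulAut.mul_apply, hβy, hα] at h1
      exact h1
  · intro a b h
    exact Subtype.ext (congrArg (fun w : {z : K | z ∈ zpowers y ∧ ∃ k : K, k * y * k⁻¹ = z} => (w : K)) h)

end Cfsg.Agent.H273.PiSpor
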